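import Mathlib
import Cfsg.Agent.S1006
import Cfsg.Agent.S0813
import Cfsg.Agent.S0265
import Cfsg.Agent.Classical.SmallPSL

/-!
The simple group of order 168: the two classes of elements of order seven and the automorphisms fixing them.
-/

set_option autoImplicit false
set_option linter.style.haveILetI false

namespace Cfsg.Agent.ResidualThree.Five

open Matrix
open scoped MatrixGroups

variable {G : Type*} [Group G] [Finite G] [IsSimpleGroup G]

theorem seven_cases (h : Nat.card G = 168) {g y : G} (hg : orderOf g = 7) (hy : orderOf y = 7) :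
    IsConj g y ∨ IsConj g⁻¹ y := by
  classical
  obtain ⟨-, -, -, -, h7n, h7⟩ := S1006.result h
  by_contra hcon
  push Not at hcon
  have hi : orderOf g⁻¹ = 7 := by rw [orderOf_inv, hg]
  have ho : ∀ {a b : G}, orderOf a = 7 → IsConj a b → orderOf b = 7 := fun {a b} ha hab => by
    obtain ⟨c, rfl⟩ := isConj_iff.1 hab
    exact (orderOf_injective (MulAut.conj c).toMonoidHom (MulAut.conj c).injective a).trans ha
  let f : ({z : G // IsConj g z} ⊕ {z : G // IsConj g⁻¹ z}) ⊕ {z : G // IsConj y z} → {z : G // orderOf z = 7} :=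
    Sum.elim (Sum.elim (fun z => ⟨z, ho hg z.2⟩) (fun z => ⟨z, ho hi z.2⟩)) (fun z => ⟨z, ho hy z.2⟩)
  have hinj : Function.Injective f := by
    rintro ((⟨a, ha⟩ | ⟨a, ha⟩) | ⟨a, ha⟩) ((⟨b, hb⟩ | ⟨b, hb⟩) | ⟨b, hb⟩) hab <;>
      simp [f] at hab <;> subst hab
    · rfl
    · exact absurd (ha.trans hb.symm) (h7 g hg).2
    · exact absurd (ha.trans hb.symm) hcon.1
    · exact absurd (hb.trans ha.symm) (h7 g hg).2
    · rfl
    · exact absurd (ha.trans hb.symm) hcon.2
    · exact absurd (hb.trans ha.symm) hcon.1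
    · exact absurd (hb.trans ha.symm) hcon.2
    · rfl
  have := Nat.card_le_card_of_injective f hinj
  rw [Nat.card_sum, Nat.card_sum, (h7 g hg).1, (h7 _ hi).1, (h7 y hy).1, h7n] at this
  omega

theorem exists_iso (h : Nat.card G = 168) : Nonempty (G ≃* SL(3, ZMod 2)) := by
  haveI : Fact (Nat.Prime 7) := ⟨by norm_num⟩
  obtain ⟨e⟩ := Classical.Small.simple_168 h
  obtain ⟨e'⟩ := Classical.Small.psl_seven_three (F := ZMod 7) (K := ZMod 2) (ZMod.card 7) (ZMod.card 2)
  have hbot : Subgroup.center SL(3, ZMod 2) = ⊥ := by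
    rw [Subgroup.eq_bot_iff_forall]
    intro x hx
    obtain ⟨r, hr, hxr⟩ := Matrix.SpecialLinearGroup.mem_center_iff.1 hx
    have h1 : r = 1 := by
      have key : ∀ r : ZMod 2, r ^ 3 = 1 → r = 1 := by decide
      exact key r (by simpa using hr)
    refine Subtype.ext ?_
    rw [← hxr, h1, map_one]
    rfl
  exact ⟨e.trans (e'.trans ((QuotientGroup.quotientMulEquivOfEq hbot).trans QuotientGroup.quotientBot))⟩

/-- The companion matrix of an element of order seven. -/
def comp7 : SL(3, ZMod 2) := ⟨!![0, 0, 1; 1, 0, 1; 0, 1, 0], by decide +kernel⟩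

/-- The transpose. -/
def transSL (g : SL(3, ZMod 2)) : SL(3, ZMod 2) :=
  ⟨(g : Matrix (Fin 3) (Fin 3) (ZMod 2))ᵀ, by rw [Matrix.det_transpose]; exact g.2⟩

theorem transSL_transSL (g : SL(3, ZMod 2)) : transSL (transSL g) = g :=
  Subtype.ext (Matrix.transpose_transpose _)

theorem transSL_mul (g k : SL(3, ZMod 2)) : transSL (g * k) = transSL k * transSL g :=
  Subtype.ext (Matrix.transpose_mul _ _)

theorem transSL_inv (g : SL(3, ZMod 2)) : transSL g⁻¹ = (transSL g)⁻¹ := by
  refine eq_inv_of_mul_eq_one_left ?_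
  rw [← transSL_mul, mul_inv_cancel]
  exact Subtype.ext Matrix.transpose_one

/-- The transpose inverse automorphism. -/
def dualAut : MulAut SL(3, ZMod 2) where
  toFun g := transSL g⁻¹
  invFun g := transSL g⁻¹
  left_inv g := by
    show transSL (transSL g⁻¹)⁻¹ = g
    rw [transSL_inv, transSL_transSL, inv_inv]
  right_inv g := by
    show transSL (transSL g⁻¹)⁻¹ = g
    rw [transSL_inv, transSL_transSL, inv_inv]
  map_mul' g k := by rw [_root_.mul_inv_rev, transSL_mul]

theorem comp7_facts : comp7 ^ 7 = 1 ∧ comp7 ≠ 1 ∧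
    ((comp7⁻¹ : SL(3, ZMod 2)) : Matrix (Fin 3) (Fin 3) (ZMod 2)).trace ≠
      (comp7 : Matrix (Fin 3) (Fin 3) (ZMod 2)).trace := by
  decide +kernel

/-- Some automorphism exchanges the classes. -/
theorem exists_swap (h : Nat.card G = 168) : ∃ τ : MulAut G, ∃ c : G, orderOf c = 7 ∧ ¬ IsConj c (τ c) := by
  haveI : Fact (Nat.Prime 7) := ⟨by norm_num⟩
  obtain ⟨e⟩ := exists_iso h
  obtain ⟨h7, h1, htr⟩ := comp7_facts
  refine ⟨(e.trans dualAut).trans e.symm, e.symm comp7,
    orderOf_eq_prime (by rw [← map_pow, h7, map_one]) (fun hc => h1 (e.symm.map_eq_one_iff.1 hc)), fun hc => ?_⟩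
  obtain ⟨x, hx⟩ := isConj_iff.1 hc
  have h2 : e x * comp7 * (e x)⁻¹ = dualAut comp7 := by
    apply e.symm.injective
    simpa using hx
  refine htr ?_
  have h3 := congrArg (fun m : SL(3, ZMod 2) => (m : Matrix (Fin 3) (Fin 3) (ZMod 2)).trace) h2
  have h4 : (dualAut comp7 : Matrix (Fin 3) (Fin 3) (ZMod 2)) =
      ((comp7⁻¹ : SL(3, ZMod 2)) : Matrix (Fin 3) (Fin 3) (ZMod 2))ᵀ := rfl
  simp only [h4, Matrix.trace_transpose] at h3
  rw [← h3, Matrix.SpecialLinearGroup.coe_mul, Matrix.SpecialLinearGroup.coe_mul, Matrix.trace_mul_comm,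
    ← mul_assoc, ← Matrix.SpecialLinearGroup.coe_mul, inv_mul_cancel, Matrix.SpecialLinearGroup.coe_one, one_mul]

theorem card_aut (h : Nat.card G = 168) : Nat.card (MulAut G) = 336 := by
  obtain ⟨e⟩ := Classical.Small.simple_168 h
  haveI : Fact (Nat.Prime 7) := ⟨by norm_num⟩
  have h1 := S0813.result (F := ZMod 7) 7 1 le_rfl (by simp) 2 le_rfl (by norm_num)
  rw [if_pos rfl, one_mul, one_mul, S0265.result, Classical.card_sl2, ZMod.card] at h1
  rw [Nat.card_congr (MulAut.congr e).toEquiv, h1]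
  norm_num

/-- An automorphism fixing a class of elements of order seven is inner. -/
theorem inner_of_preserves (h : Nat.card G = 168) (hna : ¬ IsMulCommutative G) (α : MulAut G) {g : G}
    (hg : orderOf g = 7) (hc : IsConj g (α g)) : ∃ x : G, ∀ y, α y = x * y * x⁻¹ := by
  have hpres : ∀ y : G, orderOf y = 7 → IsConj y (α y) := fun y hy => by
    rcases seven_cases h hg hy with h1 | h1
    · exact h1.symm.trans (hc.trans (α.toMonoidHom.map_isConj h1))
    · have h2 : IsConj g⁻¹ (α g⁻¹) := by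
        obtain ⟨c, hc'⟩ := isConj_iff.1 hc
        exact isConj_iff.2 ⟨c, by rw [map_inv, ← hc']; group⟩
      exact h1.symm.trans (h2.trans (α.toMonoidHom.map_isConj h1))
  set I : Subgroup (MulAut G) := (MulAut.conj : G →* MulAut G).range
  have hker : (MulAut.conj : G →* MulAut G).ker = ⊥ := by
    refine (MulAut.conj : G →* MulAut G).normal_ker.eq_bot_or_eq_top.resolve_right fun htop => hna ⟨⟨fun a b => ?_⟩⟩
    have := congrArg (fun f : MulAut G => f b) (MonoidHom.mem_ker.1 (htop ▸ Subgroup.mem_top a))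
    simp only [MulAut.conj_apply, MulAut.one_apply] at this
    exact mul_inv_eq_iff_eq_mul.1 this
  have hI : I.index = 2 := by
    have h1 : Nat.card I = 168 := by
      rw [← Nat.card_congr (MonoidHom.ofInjective ((MonoidHom.ker_eq_bot_iff _).1 hker)).toEquiv, h]
    have h2 := I.card_mul_index
    rw [h1, card_aut h] at h2
    omega
  obtain ⟨τ, c, hc7, hτ⟩ := exists_swap h
  have hτI : τ ∉ I := by
    rintro ⟨x, hx⟩
    exact hτ (isConj_iff.2 ⟨x, by rw [← hx, MulAut.conj_apply]⟩)
  have hαI : α ∈ I := by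
    by_contra hα
    obtain ⟨x, hx⟩ := (Subgroup.mul_mem_iff_of_index_two hI).2 (iff_of_false hα hτI)
    have hx' : α (τ c) = x * c * x⁻¹ := by
      rw [← MulAut.mul_apply, ← hx, MulAut.conj_apply]
    have ho : orderOf (τ c) = 7 := (orderOf_injective τ.toMonoidHom τ.injective c).trans hc7
    exact hτ ((isConj_iff.2 ⟨x, hx'.symm⟩).trans (hpres _ ho).symm)
  obtain ⟨x, rfl⟩ := hαI
  exact ⟨x, fun y => MulAut.conj_apply x y⟩

end Cfsg.Agent.ResidualThree.Five
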