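import Mathlib
import Cfsg.Agent.ResidualThree.Five.Data
import Cfsg.Agent.AltMult.Pres
import Cfsg.Agent.Classical.LinearBasic

/-!
Subgroups of the special unitary group of degree three over twenty-five elements: the triple cover of the
alternating group of degree seven and a subgroup isomorphic to the simple group of order 168 inside it.
-/

set_option autoImplicit false
set_option linter.style.longLine false
set_option linter.style.haveILetI false

namespace Cfsg.Agent.ResidualThree.Five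

open Matrix
open scoped MatrixGroups

/-- Nine entries. -/
structure M9 (α : Type) where
  a : α
  b : α
  c : α
  d : α
  e : α
  f : α
  g : α
  h : α
  i : α
deriving DecidableEq

/-- Pairs as elements of the field of twenty-five elements. -/
abbrev E : Type := ZMod 5 × ZMod 5

/-- Addition of pairs. -/
def eadd (x y : E) : E := (x.1 + y.1, x.2 + y.2)

/-- Multiplication of pairs. -/
def emul (x y : E) : E := (x.1 * y.1 + 3 * (x.2 * y.2), x.1 * y.2 + x.2 * y.1)

/-- The conjugate of a pair. -/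
def econj (x : E) : E := (x.1, -x.2)

namespace M9

variable {α : Type}

/-- The product for a given addition and multiplication. -/
def mul (ad mu : α → α → α) (x y : M9 α) : M9 α :=
  ⟨ad (ad (mu x.a y.a) (mu x.b y.d)) (mu x.c y.g), ad (ad (mu x.a y.b) (mu x.b y.e)) (mu x.c y.h),
    ad (ad (mu x.a y.c) (mu x.b y.f)) (mu x.c y.i), ad (ad (mu x.d y.a) (mu x.e y.d)) (mu x.f y.g),
    ad (ad (mu x.d y.b) (mu x.e y.e)) (mu x.f y.h), ad (ad (mu x.d y.c) (mu x.e y.f)) (mu x.f y.i),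
    ad (ad (mu x.g y.a) (mu x.h y.d)) (mu x.i y.g), ad (ad (mu x.g y.b) (mu x.h y.e)) (mu x.i y.h),
    ad (ad (mu x.g y.c) (mu x.h y.f)) (mu x.i y.i)⟩

/-- The determinant, `m` standing for minus one. -/
def det (ad mu : α → α → α) (m : α) (x : M9 α) : α :=
  ad (ad (ad (ad (ad (mu (mu x.a x.e) x.i) (mu m (mu (mu x.a x.f) x.h))) (mu m (mu (mu x.b x.d) x.i)))
    (mu (mu x.b x.f) x.g)) (mu (mu x.c x.d) x.h)) (mu m (mu (mu x.c x.e) x.g))

/-- The transpose. -/
def tr (x : M9 α) : M9 α := ⟨x.a, x.d, x.g, x.b, x.e, x.h, x.c, x.f, x.i⟩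

/-- Entrywise images. -/
def map {β : Type} (f : α → β) (x : M9 α) : M9 β := ⟨f x.a, f x.b, f x.c, f x.d, f x.e, f x.f, f x.g, f x.h, f x.i⟩

/-- The matrix. -/
def toMat {R : Type*} (f : α → R) (x : M9 α) : Matrix (Fin 3) (Fin 3) R :=
  !![f x.a, f x.b, f x.c; f x.d, f x.e, f x.f; f x.g, f x.h, f x.i]

theorem toMat_mul {R : Type*} [CommRing R] {f : α → R} {ad mu : α → α → α} (had : ∀ x y, f (ad x y) = f x + f y)
    (hmu : ∀ x y, f (mu x y) = f x * f y) (x y : M9 α) :
    (M9.mul ad mu x y).toMat f = x.toMat f * y.toMat f := by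
  simp [toMat, M9.mul, had, hmu, add_assoc]

theorem det_toMat {R : Type*} [CommRing R] {f : α → R} {ad mu : α → α → α} {m : α}
    (had : ∀ x y, f (ad x y) = f x + f y) (hmu : ∀ x y, f (mu x y) = f x * f y) (hm : f m = -1) (x : M9 α) :
    (x.toMat f).det = f (M9.det ad mu m x) := by
  simp [toMat, M9.det, had, hmu, hm, Matrix.det_fin_three]
  ring

end M9

/-- A pair from its code. -/
def edig (n : ℕ) : E := (((n / 5 % 5 : ℕ) : ZMod 5), ((n % 5 : ℕ) : ZMod 5))

/-- A matrix over pairs from its code. -/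
def d5 (n : ℕ) : M9 E :=
  ⟨edig n, edig (n / 25), edig (n / 25 ^ 2), edig (n / 25 ^ 3), edig (n / 25 ^ 4), edig (n / 25 ^ 5),
    edig (n / 25 ^ 6), edig (n / 25 ^ 7), edig (n / 25 ^ 8)⟩

/-- A bit from a code. -/
def bdig (n : ℕ) : ZMod 2 := ((n % 2 : ℕ) : ZMod 2)

/-- A matrix over two elements from its code. -/
def d2 (n : ℕ) : M9 (ZMod 2) :=
  ⟨bdig n, bdig (n / 2), bdig (n / 4), bdig (n / 8), bdig (n / 16), bdig (n / 32), bdig (n / 64), bdig (n / 128),
    bdig (n / 256)⟩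

/-- The product over pairs. -/
abbrev mul5 (x y : M9 E) : M9 E := M9.mul eadd emul x y

/-- The product over two elements. -/
abbrev mul2 (x y : M9 (ZMod 2)) : M9 (ZMod 2) := M9.mul (· + ·) (· * ·) x y

/-- The identity over pairs. -/
def one5 : M9 E := ⟨(1, 0), (0, 0), (0, 0), (0, 0), (1, 0), (0, 0), (0, 0), (0, 0), (1, 0)⟩

/-- The identity over two elements. -/
def one2 : M9 (ZMod 2) := ⟨1, 0, 0, 0, 1, 0, 0, 0, 1⟩

/-- The generators. -/
def G5 (k : Fin 6) : M9 E := d5 (genCodes.getD k 0)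

/-- The entries of the table over two elements. -/
def T2 (i : ℕ) : M9 (ZMod 2) := d2 (tabCodes.getD i (0, 0)).1

/-- The entries of the table over pairs. -/
def T5 (i : ℕ) : M9 E := d5 (tabCodes.getD i (0, 0)).2

/-- The generators of the table over two elements. -/
def P2 (k : ℕ) : M9 (ZMod 2) := d2 (tabGen.getD k (0, 0)).1

/-- The generators of the table over pairs. -/
def P5 (k : ℕ) : M9 E := d5 (tabGen.getD k (0, 0)).2

theorem G5_det : ∀ k : Fin 6, M9.det eadd emul (4, 0) (G5 k) = (1, 0) := by decide +kernel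

theorem G5_unitary : ∀ k : Fin 6, mul5 (G5 k).tr ((G5 k).map econj) = one5 := by decide +kernel

theorem G5_cube : ∀ k : Fin 6, mul5 (G5 k) (mul5 (G5 k) (G5 k)) = one5 := by decide +kernel

theorem G5_pair : ∀ i j : Fin 5, i ≠ j →
    mul5 (mul5 (G5 i.castSucc) (G5 j.castSucc)) (mul5 (G5 i.castSucc) (G5 j.castSucc)) = one5 ∨
    mul5 (mul5 (G5 i.castSucc) (G5 j.castSucc)) (mul5 (G5 i.castSucc) (G5 j.castSucc)) = G5 5 ∨
    mul5 (mul5 (G5 i.castSucc) (G5 j.castSucc)) (mul5 (G5 i.castSucc) (G5 j.castSucc)) = mul5 (G5 5) (G5 5) := by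
  decide +kernel

theorem G5_omega : G5 5 = ⟨(2, 1), (0, 0), (0, 0), (0, 0), (2, 1), (0, 0), (0, 0), (0, 0), (2, 1)⟩ := by
  decide +kernel

theorem P5_words : P5 0 = mul5 (G5 2) (G5 0) ∧ P5 1 = mul5 (G5 4) (mul5 (G5 1) (mul5 (G5 3) (G5 2))) := by
  decide +kernel

/-- An element of order five of the cover. -/
def five5 : M9 E := mul5 (G5 4) (mul5 (G5 1) (G5 0))

theorem five5_pow : mul5 five5 (mul5 five5 (mul5 five5 (mul5 five5 five5))) = one5 := by decide +kernel

theorem five5_not_scalar : five5.b ≠ (0, 0) ∨ five5.c ≠ (0, 0) ∨ five5.d ≠ (0, 0) ∨ five5.f ≠ (0, 0) ∨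
    five5.g ≠ (0, 0) ∨ five5.h ≠ (0, 0) := by decide +kernel

theorem tab_det : ∀ i : Fin 168, M9.det (· + ·) (· * ·) 1 (T2 i) = 1 := by decide +kernel

theorem gen_det : ∀ k : Fin 2, M9.det (· + ·) (· * ·) 1 (P2 k) = 1 ∧ M9.det eadd emul (4, 0) (P5 k) = (1, 0) := by
  decide +kernel

theorem tab_zero : T2 0 = one2 ∧ T5 0 = one5 := by decide +kernel

theorem tab_par : ∀ i : Fin 168, (i : ℕ) = 0 ∨
    ((tabPar.getD i (0, 0)).1 < 2 ∧ (tabPar.getD i (0, 0)).2 < (i : ℕ) ∧
      T2 i = mul2 (P2 (tabPar.getD i (0, 0)).1) (T2 (tabPar.getD i (0, 0)).2) ∧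
      T5 i = mul5 (P5 (tabPar.getD i (0, 0)).1) (T5 (tabPar.getD i (0, 0)).2)) := by
  decide +kernel

theorem tab_next : ∀ i : Fin 168, (tabNext.getD i (0, 0)).1 < 168 ∧ (tabNext.getD i (0, 0)).2 < 168 ∧
    T2 (tabNext.getD i (0, 0)).1 = mul2 (P2 0) (T2 i) ∧ T5 (tabNext.getD i (0, 0)).1 = mul5 (P5 0) (T5 i) ∧
    T2 (tabNext.getD i (0, 0)).2 = mul2 (P2 1) (T2 i) ∧ T5 (tabNext.getD i (0, 0)).2 = mul5 (P5 1) (T5 i) := by
  decide +kernel

theorem gen_orders : mul2 (P2 0) (P2 0) = one2 ∧ mul5 (P5 0) (P5 0) = one5 ∧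
    mul2 (P2 1) (mul2 (P2 1) (P2 1)) = one2 ∧ mul5 (P5 1) (mul5 (P5 1) (P5 1)) = one5 := by decide +kernel

theorem codes_nodup : (tabCodes.map Prod.fst).Nodup := by decide +kernel

/-- The code of a matrix over two elements. -/
def enc2 (x : M9 (ZMod 2)) : ℕ :=
  x.a.val + 2 * x.b.val + 4 * x.c.val + 8 * x.d.val + 16 * x.e.val + 32 * x.f.val + 64 * x.g.val + 128 * x.h.val +
    256 * x.i.val

theorem enc2_T2 : ∀ i : Fin 168, enc2 (T2 i) = (tabCodes.getD i (0, 0)).1 := by decide +kernel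

theorem seven_facts : eadd (eadd (T5 3).a (T5 3).e) (T5 3).i = (2, 3) ∧ (T2 3).a + (T2 3).e + (T2 3).i = 1 ∧
    (M9.mul (· + ·) (· * ·) (T2 3) (M9.mul (· + ·) (· * ·) (T2 3) (M9.mul (· + ·) (· * ·) (T2 3)
      (M9.mul (· + ·) (· * ·) (T2 3) (M9.mul (· + ·) (· * ·) (T2 3) (mul2 (T2 3) (T2 3))))))) = one2 ∧
    T2 3 ≠ one2 := by
  decide +kernel

variable {F : Type*} [Field F] [CharP F 5] {r : F}

/-- The field element of a pair. -/
def phi (r : F) (x : E) : F := ZMod.castHom (dvd_refl 5) F x.1 + ZMod.castHom (dvd_refl 5) F x.2 * r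

theorem phi_add (r : F) (x y : E) : phi r (eadd x y) = phi r x + phi r y := by
  simp only [phi, eadd, map_add]; ring

theorem phi_mul (hr : r * r = 3) (x y : E) : phi r (emul x y) = phi r x * phi r y := by
  simp only [phi, emul, map_add, map_mul, map_ofNat]
  linear_combination -(ZMod.castHom (dvd_refl 5) F x.2 * ZMod.castHom (dvd_refl 5) F y.2) * hr

theorem five_eq_zero : (5 : F) = 0 := by exact_mod_cast CharP.cast_eq_zero F 5

theorem phi_one (r : F) : phi r (1, 0) = 1 := by simp [phi]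

theorem phi_zero (r : F) : phi r (0, 0) = 0 := by simp [phi]

theorem phi_neg_one (r : F) : phi r (4, 0) = -1 := by
  simp only [phi, map_ofNat, map_zero, zero_mul, add_zero]
  linear_combination five_eq_zero (F := F)

theorem one5_toMat (r : F) : one5.toMat (phi r) = 1 := by
  simp [one5, M9.toMat, phi_one, phi_zero, Matrix.one_fin_three]

theorem det5 (hr : r * r = 3) (x : M9 E) (hx : M9.det eadd emul (4, 0) x = (1, 0)) :
    (x.toMat (phi r)).det = 1 := by
  rw [M9.det_toMat (phi_add r) (phi_mul hr) (phi_neg_one r), hx, phi_one]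

theorem mul5_toMat (hr : r * r = 3) (x y : M9 E) :
    (mul5 x y).toMat (phi r) = x.toMat (phi r) * y.toMat (phi r) :=
  M9.toMat_mul (phi_add r) (phi_mul hr) x y

theorem mul2_toMat (x y : M9 (ZMod 2)) : (mul2 x y).toMat id = x.toMat id * y.toMat id :=
  M9.toMat_mul (f := id) (fun _ _ => rfl) (fun _ _ => rfl) x y

/-- The generators in the general linear group. -/
def genF (hr : r * r = 3) (k : Fin 6) : GL (Fin 3) F :=
  Matrix.GeneralLinearGroup.mkOfDetNeZero ((G5 k).toMat (phi r))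
    (by rw [det5 hr _ (G5_det k)]; exact one_ne_zero)

theorem val_genF (hr : r * r = 3) (k : Fin 6) :
    (genF hr k : Matrix (Fin 3) (Fin 3) F) = (G5 k).toMat (phi r) := rfl

theorem det_genF (hr : r * r = 3) (k : Fin 6) : (genF hr k : Matrix (Fin 3) (Fin 3) F).det = 1 :=
  det5 hr _ (G5_det k)

/-- The triple cover of the alternating group of degree seven. -/
def cover (hr : r * r = 3) : Subgroup (GL (Fin 3) F) := Subgroup.closure (Set.range (genF hr))

theorem genF_mem (hr : r * r = 3) (k : Fin 6) : genF hr k ∈ cover hr := Subgroup.subset_closure ⟨k, rfl⟩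

/-- A generator of the table. -/
def tgen2 (k : Fin 2) : SL(3, ZMod 2) :=
  ⟨(P2 k).toMat id, by
    rw [M9.det_toMat (f := id) (ad := (· + ·)) (mu := (· * ·)) (m := 1) (fun _ _ => rfl) (fun _ _ => rfl)
      (by decide)]
    exact (gen_det k).1⟩

/-- A generator of the table in the general linear group. -/
def tgen5 (hr : r * r = 3) (k : Fin 2) : GL (Fin 3) F :=
  Matrix.GeneralLinearGroup.mkOfDetNeZero ((P5 k).toMat (phi r))
    (by rw [det5 hr _ (gen_det k).2]; exact one_ne_zero)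

theorem tgen5_mem (hr : r * r = 3) (k : Fin 2) : tgen5 hr k ∈ cover hr := by
  have h0 : tgen5 hr 0 = genF hr 2 * genF hr 0 := Units.ext (by
    show (P5 0).toMat (phi r) = (genF hr 2 : Matrix (Fin 3) (Fin 3) F) * (genF hr 0 : Matrix (Fin 3) (Fin 3) F)
    rw [P5_words.1, mul5_toMat hr]; rfl)
  have h1 : tgen5 hr 1 = genF hr 4 * (genF hr 1 * (genF hr 3 * genF hr 2)) := Units.ext (by
    show (P5 1).toMat (phi r) = (genF hr 4 : Matrix (Fin 3) (Fin 3) F) * ((genF hr 1 : Matrix (Fin 3) (Fin 3) F) *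
      ((genF hr 3 : Matrix (Fin 3) (Fin 3) F) * (genF hr 2 : Matrix (Fin 3) (Fin 3) F)))
    rw [P5_words.2, mul5_toMat hr, mul5_toMat hr, mul5_toMat hr]; rfl)
  fin_cases k
  · exact h0 ▸ mul_mem (genF_mem hr 2) (genF_mem hr 0)
  · exact h1 ▸ mul_mem (genF_mem hr 4) (mul_mem (genF_mem hr 1) (mul_mem (genF_mem hr 3) (genF_mem hr 2)))

/-- The graph of the homomorphism. -/
def graph (hr : r * r = 3) : Subgroup (SL(3, ZMod 2) × GL (Fin 3) F) :=
  Subgroup.closure (Set.range fun k => (tgen2 k, tgen5 hr k))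

/-- A pair agrees with an entry of the table. -/
def At (r : F) (p : SL(3, ZMod 2) × GL (Fin 3) F) (i : ℕ) : Prop :=
  (p.1 : Matrix (Fin 3) (Fin 3) (ZMod 2)) = (T2 i).toMat id ∧
    (p.2 : Matrix (Fin 3) (Fin 3) F) = (T5 i).toMat (phi r)

theorem at_mul (hr : r * r = 3) {p : SL(3, ZMod 2) × GL (Fin 3) F} {i j : ℕ} (k : Fin 2) (hp : At r p i)
    (h2 : T2 j = mul2 (P2 k) (T2 i)) (h5 : T5 j = mul5 (P5 k) (T5 i)) :
    At r ((tgen2 k, tgen5 hr k) * p) j := by
  refine ⟨?_, ?_⟩
  · rw [Prod.fst_mul, Matrix.SpecialLinearGroup.coe_mul, hp.1, h2, mul2_toMat]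
    rfl
  · rw [Prod.snd_mul, Units.val_mul, hp.2, h5, mul5_toMat hr]
    rfl

theorem at_one (r : F) : At r (1, 1) 0 := by
  refine ⟨?_, ?_⟩
  · rw [tab_zero.1]
    show (1 : Matrix (Fin 3) (Fin 3) (ZMod 2)) = _
    simp [one2, M9.toMat, Matrix.one_fin_three]
  · rw [tab_zero.2, one5_toMat]
    rfl

theorem exists_at (hr : r * r = 3) : ∀ i < 168, ∃ p ∈ graph hr, At r p i := by
  intro i
  induction i using Nat.strong_induction_on with
  | _ i ih =>
    intro hi
    rcases tab_par ⟨i, hi⟩ with h | ⟨hk, hlt, h2, h5⟩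
    · obtain rfl : i = 0 := h
      exact ⟨(1, 1), one_mem _, at_one r⟩
    obtain ⟨p, hp, hpa⟩ := ih _ hlt (lt_trans hlt hi)
    exact ⟨_, mul_mem (Subgroup.subset_closure ⟨⟨_, hk⟩, rfl⟩) hp, at_mul hr ⟨_, hk⟩ hpa h2 h5⟩

theorem exists_index (hr : r * r = 3) : ∀ p ∈ graph hr, ∃ i < 168, At r p i := by
  intro p hp
  have hstep : ∀ (k : Fin 2) (q : SL(3, ZMod 2) × GL (Fin 3) F), (∃ i < 168, At r q i) →
      ∃ i < 168, At r ((tgen2 k, tgen5 hr k) * q) i := by
    rintro k q ⟨i, hi, hq⟩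
    obtain ⟨h1, h2, a2, a5, b2, b5⟩ := tab_next ⟨i, hi⟩
    fin_cases k
    · exact ⟨_, h1, at_mul hr 0 hq a2 a5⟩
    · exact ⟨_, h2, at_mul hr 1 hq b2 b5⟩
  obtain ⟨o1, o2, o3, o4⟩ := gen_orders
  have e0 : (tgen2 0, tgen5 hr 0) * (tgen2 0, tgen5 hr 0) = 1 := by
    refine Prod.ext (Subtype.ext ?_) (Units.ext ?_)
    · show (P2 0).toMat id * (P2 0).toMat id = 1
      rw [← mul2_toMat, o1]
      simp [one2, M9.toMat, Matrix.one_fin_three]
    · show (P5 0).toMat (phi r) * (P5 0).toMat (phi r) = 1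
      rw [← mul5_toMat hr, o2, one5_toMat]
  have e1 : (tgen2 1, tgen5 hr 1) * ((tgen2 1, tgen5 hr 1) * (tgen2 1, tgen5 hr 1)) = 1 := by
    refine Prod.ext (Subtype.ext ?_) (Units.ext ?_)
    · show (P2 1).toMat id * ((P2 1).toMat id * (P2 1).toMat id) = 1
      rw [← mul2_toMat, ← mul2_toMat, o3]
      simp [one2, M9.toMat, Matrix.one_fin_three]
    · show (P5 1).toMat (phi r) * ((P5 1).toMat (phi r) * (P5 1).toMat (phi r)) = 1
      rw [← mul5_toMat hr, ← mul5_toMat hr, o4, one5_toMat]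
  induction hp using Subgroup.closure_induction_left with
  | one => exact ⟨0, by norm_num, at_one r⟩
  | mul_left x hx y _ ih =>
    obtain ⟨k, rfl⟩ := hx
    exact hstep k y ih
  | inv_mul_cancel x hx y _ ih =>
    obtain ⟨k, rfl⟩ := hx
    fin_cases k
    · show ∃ i < 168, At r ((tgen2 0, tgen5 hr 0)⁻¹ * y) i
      rw [inv_eq_of_mul_eq_one_right e0]
      exact hstep 0 y ih
    · show ∃ i < 168, At r ((tgen2 1, tgen5 hr 1)⁻¹ * y) i
      rw [inv_eq_of_mul_eq_one_right e1, mul_assoc]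
      exact hstep 1 _ (hstep 1 y ih)

theorem at_inj {p q : SL(3, ZMod 2) × GL (Fin 3) F} {i j : ℕ} (hi : i < 168) (hj : j < 168) (hp : At r p i)
    (hq : At r q j) (h : p.1 = q.1) : i = j ∧ p = q := by
  have e : (T2 i).toMat id = (T2 j).toMat id := by rw [← hp.1, ← hq.1, h]
  have e9 : T2 i = T2 j := by
    have hh := fun a b => congrFun (congrFun e a) b
    have h1 := hh 0 0; have h2 := hh 0 1; have h3 := hh 0 2
    have h4 := hh 1 0; have h5 := hh 1 1; have h6 := hh 1 2
    have h7 := hh 2 0; have h8 := hh 2 1; have h9 := hh 2 2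
    revert h1 h2 h3 h4 h5 h6 h7 h8 h9
    generalize T2 i = x
    generalize T2 j = y
    cases x; cases y
    simp +contextual [M9.toMat]
  have hij : i = j := by
    have hc : (tabCodes.map Prod.fst).getD i 0 = (tabCodes.map Prod.fst).getD j 0 := by
      rw [show (0 : ℕ) = Prod.fst ((0, 0) : ℕ × ℕ) from rfl, List.getD_map, List.getD_map,
        ← enc2_T2 ⟨i, hi⟩, ← enc2_T2 ⟨j, hj⟩]
      exact congrArg enc2 e9
    have hl : (tabCodes.map Prod.fst).length = 168 := by decide +kernel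
    rw [List.getD_eq_getElem _ _ (by omega), List.getD_eq_getElem _ _ (by omega)] at hc
    exact (codes_nodup.getElem_inj_iff).1 hc
  subst hij
  exact ⟨rfl, Prod.ext h (Units.ext (hp.2.trans hq.2.symm))⟩

theorem card_sl32 : Nat.card (SL(3, ZMod 2)) = 168 := by
  have h := Classical.card_sl_mul (F := ZMod 2) (q := 2) (ZMod.card 2) 3 (by norm_num)
  rw [show (∏ i : Fin 3, (2 ^ 3 - 2 ^ (i : ℕ))) = 168 from by decide] at h
  simpa using h

/-- The homomorphism given by the table. -/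
theorem exists_hom (hr : r * r = 3) : ∃ φ : SL(3, ZMod 2) →* GL (Fin 3) F, φ.range ≤ cover hr ∧
    ∀ g : SL(3, ZMod 2), ∀ i < 168, (g : Matrix (Fin 3) (Fin 3) (ZMod 2)) = (T2 i).toMat id →
      (φ g : Matrix (Fin 3) (Fin 3) F) = (T5 i).toMat (phi r) := by
  classical
  let π : graph hr →* SL(3, ZMod 2) := (MonoidHom.fst _ _).comp (graph hr).subtype
  have hinj : Function.Injective π := fun p q e => by
    obtain ⟨i, hi, hp⟩ := exists_index hr p p.2
    obtain ⟨j, hj, hq⟩ := exists_index hr q q.2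
    exact Subtype.ext (at_inj hi hj hp hq e).2
  choose el hel helat using exists_at hr
  have hsurj : Function.Surjective π := by
    let f : Fin 168 → SL(3, ZMod 2) := fun i => (el i i.2).1
    have hf : Function.Injective f := fun i j e =>
      Fin.ext (at_inj i.2 j.2 (helat i i.2) (helat j j.2) e).1
    have hb := (Nat.bijective_iff_injective_and_card f).2 ⟨hf, by rw [card_sl32, Nat.card_fin]⟩
    intro g
    obtain ⟨i, rfl⟩ := hb.2 g
    exact ⟨⟨el i i.2, hel i i.2⟩, rfl⟩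
  let e := MulEquiv.ofBijective π ⟨hinj, hsurj⟩
  refine ⟨((MonoidHom.snd _ _).comp (graph hr).subtype).comp e.symm.toMonoidHom, ?_, fun g i hi hg => ?_⟩
  · rintro _ ⟨g, rfl⟩
    have hle : graph hr ≤ (cover hr).comap (MonoidHom.snd _ _) := by
      rw [graph, Subgroup.closure_le]
      rintro _ ⟨k, rfl⟩
      exact tgen5_mem hr k
    exact hle (e.symm g).2
  · have h1 : (el i hi).1 = g := Subtype.ext ((helat i hi).1.trans hg.symm)
    have h2 : e.symm g = ⟨el i hi, hel i hi⟩ := e.injective (by rw [e.apply_symm_apply]; exact h1.symm)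
    show ((e.symm g : SL(3, ZMod 2) × GL (Fin 3) F).2 : Matrix (Fin 3) (Fin 3) F) = _
    rw [h2]
    exact (helat i hi).2

/-- The cover has order at most three times that of the alternating group of degree seven. -/
theorem card_cover_le [Finite F] (hr : r * r = 3) : Nat.card (cover hr) ≤ 7560 := by
  classical
  set e : Fin 6 → GL (Fin 3) F := genF hr
  let Z := Subgroup.center (GL (Fin 3) F)
  have hω : e 5 ∈ Z := by
    refine Subgroup.mem_center_iff.2 fun x => Units.ext ?_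
    have hs : (genF hr 5 : Matrix (Fin 3) (Fin 3) F) = phi r (2, 1) • (1 : Matrix (Fin 3) (Fin 3) F) := by
      rw [val_genF, G5_omega]
      simp [M9.toMat, phi_zero, Matrix.one_fin_three, Matrix.smul_of]
    show (x : Matrix (Fin 3) (Fin 3) F) * (genF hr 5 : Matrix (Fin 3) (Fin 3) F) = (genF hr 5 : Matrix (Fin 3) (Fin 3) F) * x
    rw [hs, Matrix.mul_smul, Matrix.smul_mul, one_mul, mul_one]
  let q : GL (Fin 3) F →* GL (Fin 3) F ⧸ Z := QuotientGroup.mk' Z
  let f : ℕ → GL (Fin 3) F ⧸ Z := fun i => if h : i < 5 then q (e ⟨i, by omega⟩) else 1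
  haveI : Finite (GL (Fin 3) F ⧸ Z) := inferInstance
  have h3 : ∀ i < 5, f i ^ 3 = 1 := fun i hi => by
    simp only [f, hi, dif_pos]
    rw [← map_pow, show e ⟨i, by omega⟩ ^ 3 = 1 from Units.ext (by
      rw [pow_three, Units.val_mul, Units.val_mul, val_genF, ← mul5_toMat hr, ← mul5_toMat hr, G5_cube,
        one5_toMat, Units.val_one]), map_one]
  have h2 : ∀ i j, i < 5 → j < 5 → i ≠ j → (f i * f j) ^ 2 = 1 := fun i j hi hj hij => by
    simp only [f, hi, hj, dif_pos]
    rw [← map_mul, ← map_pow]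
    refine (QuotientGroup.eq_one_iff _).2 ?_
    have hv : ((e ⟨i, by omega⟩ * e ⟨j, by omega⟩) ^ 2 : GL (Fin 3) F) = 1 ∨
        ((e ⟨i, by omega⟩ * e ⟨j, by omega⟩) ^ 2 : GL (Fin 3) F) = e 5 ∨
        ((e ⟨i, by omega⟩ * e ⟨j, by omega⟩) ^ 2 : GL (Fin 3) F) = e 5 * e 5 := by
      rcases G5_pair ⟨i, hi⟩ ⟨j, hj⟩ (fun h => hij (congrArg Fin.val h)) with h | h | h
      · refine Or.inl (Units.ext ?_)
        rw [pow_two, Units.val_mul, Units.val_mul, val_genF, val_genF, ← mul5_toMat hr, ← mul5_toMat hr]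
        exact (congrArg (M9.toMat (phi r)) h).trans ((one5_toMat r).trans Units.val_one.symm)
      · refine Or.inr (Or.inl (Units.ext ?_))
        rw [pow_two, Units.val_mul, Units.val_mul, val_genF, val_genF, ← mul5_toMat hr, ← mul5_toMat hr]
        exact congrArg (M9.toMat (phi r)) h
      · refine Or.inr (Or.inr (Units.ext ?_))
        rw [pow_two, Units.val_mul, Units.val_mul, Units.val_mul, val_genF, val_genF, val_genF, ← mul5_toMat hr,
          ← mul5_toMat hr, ← mul5_toMat hr]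
        exact congrArg (M9.toMat (phi r)) h
    rcases hv with h | h | h <;> rw [h]
    exacts [one_mem _, hω, mul_mem hω hω]
  have hK := AltMult.two_mul_card_closure_le 5 f h3 h2
  have hmap : (cover hr).map q = Subgroup.closure (f '' Set.Iio 5) := by
    refine le_antisymm ?_ ((Subgroup.closure_le _).2 ?_)
    · rw [cover, MonoidHom.map_closure, Subgroup.closure_le]
      rintro _ ⟨_, ⟨k, rfl⟩, rfl⟩
      by_cases hk : (k : ℕ) < 5
      · refine Subgroup.subset_closure ⟨k, hk, ?_⟩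
        simp only [f, hk, dif_pos]
        rfl
      · obtain rfl : k = 5 := Fin.ext (by have := k.2; simp; omega)
        rw [show q (genF hr 5) = 1 from (QuotientGroup.eq_one_iff _).2 hω]
        exact one_mem _
    · rintro _ ⟨i, hi, rfl⟩
      simp only [f, show i < 5 from hi, dif_pos]
      exact ⟨_, genF_mem hr _, rfl⟩
  let ψ : cover hr →* GL (Fin 3) F ⧸ Z := q.comp (cover hr).subtype
  have hr' : ψ.range = Subgroup.closure (f '' Set.Iio 5) := by
    rw [MonoidHom.range_comp, Subgroup.range_subtype, hmap]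
  have hker : Nat.card ψ.ker ≤ 3 := by
    have hdet : ∀ x ∈ cover hr, (x : Matrix (Fin 3) (Fin 3) F).det = 1 := by
      intro x hx
      have hle : cover hr ≤ (Matrix.GeneralLinearGroup.det : GL (Fin 3) F →* Fˣ).ker := by
        rw [cover, Subgroup.closure_le]
        rintro _ ⟨k, rfl⟩
        exact Units.ext (det_genF hr k)
      exact congrArg Units.val (MonoidHom.mem_ker.1 (hle hx))
    refine le_trans ?_ ((Polynomial.card_nthRoots 3 (1 : F)))
    refine le_trans ?_ (Multiset.toFinset_card_le _)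
    rw [← Nat.card_eq_finsetCard]
    have hsc : ∀ z : ψ.ker, ∃ c : F, ((z : cover hr) : GL (Fin 3) F).1 = c • (1 : Matrix (Fin 3) (Fin 3) F) := fun z => by
      have hz : ((z : cover hr) : GL (Fin 3) F) ∈ Z := (QuotientGroup.eq_one_iff _).1 (MonoidHom.mem_ker.1 z.2)
      obtain ⟨u, hu⟩ := (Matrix.GeneralLinearGroup.center_eq_range_scalar (n := Fin 3) (R := F)).le hz
      exact ⟨u, by rw [← hu]; simp [Matrix.smul_one_eq_diagonal]⟩
    choose c hc using hsc
    refine Nat.card_le_card_of_injective (fun z => ⟨c z, ?_⟩) fun z w e => ?_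
    · rw [Multiset.mem_toFinset, Polynomial.mem_nthRoots (by norm_num)]
      have h := hdet _ (z : cover hr).2
      rwa [hc, Matrix.det_smul, Matrix.det_one, mul_one, Fintype.card_fin] at h
    · exact Subtype.ext (Subtype.ext (Units.ext (by rw [hc, hc, show c z = c w from congrArg Subtype.val e])))
  rw [Subgroup.card_eq_card_quotient_mul_card_subgroup ψ.ker,
    Nat.card_congr (QuotientGroup.quotientKerEquivRange ψ).toEquiv, hr']
  have h7 : (5 + 2).factorial = 5040 := rfl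
  rw [h7] at hK
  calc Nat.card (Subgroup.closure (f '' Set.Iio 5)) * Nat.card ψ.ker ≤ 2520 * 3 :=
        Nat.mul_le_mul (by omega) hker
    _ = 7560 := rfl

end Cfsg.Agent.ResidualThree.Five
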